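import Cfsg.Agent.Known.SLTwo.McKay.Normalizers
import Cfsg.Agent.Known.SLTwo.Chars.SLCounts

/-! The number of characters of SL₂ of degree prime to `ℓ`, compared with the Sylow normalizer. -/

set_option autoImplicit false
set_option linter.unusedSectionVars false
set_option linter.style.haveILetI false

open Matrix
open scoped MatrixGroups

namespace Cfsg.Lib.GLTwo.McKay

open Cfsg.Lib.McKay Cfsg.Lib.Chars Cfsg.Lib.GLTwo.SCh

variable {F : Type*} [Field F] [Fintype F]

theorem card_split {G : Type*} [Group G] [Finite G] (ℓ : ℕ) (P : Cfsg.IrrCharacter G → Prop)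
    (h : ∀ χ : Cfsg.IrrCharacter G, ℓ ∣ Cfsg.charDegree (χ : G → ℂ) ↔ P χ) :
    Nat.card (Prime' G ℓ) + Nat.card {χ // P χ} = Nat.card (ConjClasses G) := by
  classical
  haveI := Fintype.ofFinite G
  rw [← card_irrCharacter (G := G),
    show Nat.card {χ // P χ} = Nat.card {χ : Cfsg.IrrCharacter G // ℓ ∣ Cfsg.charDegree (χ : G → ℂ)} from
      Nat.card_congr (Equiv.subtypeEquivRight fun χ => (h χ).symm),
    add_comm, ← Nat.card_sum]
  exact Nat.card_congr (Equiv.sumCompl _)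

theorem SL_char (p : ℕ) [Fact p.Prime] [CharP F p] (hodd : Odd (Fintype.card F)) :
    Nat.card (Prime' SL(2, F) p) = Fintype.card F + 3 := by
  classical
  obtain ⟨k, hk0, hk⟩ := FiniteField.card F p
  have hp : p.Prime := Fact.out
  have hpq : p ∣ Fintype.card F := hk ▸ dvd_pow_self p k.pos.ne'
  have hp2 : p ≠ 2 := fun e => by
    have := Nat.odd_iff.1 hodd
    have h2 : 2 ∣ Fintype.card F := e ▸ hpq
    omega
  obtain ⟨ν, hν⟩ := exists_nonsquare_unit hodd
  obtain ⟨h, h1, hh, hh1, hh2, hh3⟩ := odd_deg_ne (F := F) hodd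
  have hiff : ∀ χ : Cfsg.IrrCharacter SL(2, F), p ∣ Cfsg.charDegree (χ : SL(2, F) → ℂ) ↔ χ = ⟨St, isIrr_St⟩ := by
    intro χ
    have hn : ∀ n : ℕ, p ∣ 2 * n + 2 ∨ p ∣ 2 * n → p ∣ n + 1 ∨ p ∣ n := by
      rintro n (h | h)
      · exact .inl ((hp.dvd_mul.1 (by rw [show 2 * (n + 1) = 2 * n + 2 by ring]; exact h : p ∣ 2 * (n + 1))).resolve_left
          fun e => hp2 ((Nat.prime_dvd_prime_iff_eq hp Nat.prime_two).1 e))
      · exact .inr ((hp.dvd_mul.1 h).resolve_left fun e => hp2 ((Nat.prime_dvd_prime_iff_eq hp Nat.prime_two).1 e))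
    rw [Cfsg.charDegree]
    constructor
    · intro hd
      have h2 := two_ne_zero
      rcases kinds_odd hodd hν χ.2 with e | e | ⟨α, -, e⟩ | e | e | e
      · rw [e] at hd; simp at hd; exact absurd hd hp.ne_one
      · exact Subtype.ext e
      · exfalso
        rw [e, PS_one, ← Nat.cast_add_one, Complex.natCast_re, Nat.floor_natCast] at hd
        exact hp.not_dvd_one ((Nat.dvd_add_right hpq).1 hd)
      · exfalso
        rw [e.1, Complex.natCast_re, Nat.floor_natCast, hh2] at hd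
        have h3 : p ∣ 2 * (h + 1) := hd.mul_left 2
        rw [show 2 * (h + 1) = Fintype.card F + 1 by omega] at h3
        exact hp.not_dvd_one ((Nat.dvd_add_right hpq).1 h3)
      · exfalso
        rw [e.2.1, Complex.natCast_re, Nat.floor_natCast] at hd
        have h4 := Nat.dvd_sub hpq hd
        rw [Nat.sub_sub_self Fintype.card_pos] at h4
        exact hp.not_dvd_one h4
      · exfalso
        rw [e.2.1, Complex.natCast_re, Nat.floor_natCast, hh1] at hd
        have h4 := Nat.dvd_sub hpq (hd.mul_left 2)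
        rw [show Fintype.card F - 2 * h = 1 by omega] at h4
        exact hp.not_dvd_one h4
    · rintro rfl
      show p ∣ ⌊(St (1 : SL(2, F))).re⌋₊
      rw [St_one, Complex.natCast_re, Nat.floor_natCast]
      exact hpq
  have := card_split p _ hiff
  rw [card_classes_odd hodd, Nat.card_unique (α := {χ : Cfsg.IrrCharacter SL(2, F) // χ = ⟨St, isIrr_St⟩})] at this
  omega

theorem SL_two (hodd : Odd (Fintype.card F)) (h5 : 5 ≤ Fintype.card F) : Nat.card (Prime' SL(2, F) 2) = 4 := by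
  classical
  obtain ⟨hall, hcnt⟩ := degrees_odd (F := F) hodd
  obtain ⟨c1, cq, -, -, cp, cm⟩ := hcnt h5
  obtain ⟨h, h1, hh, hh1, hh2, hh3⟩ := odd_deg_ne (F := F) hodd
  obtain ⟨o, e, ho, hoe, heo, hoc⟩ : ∃ o e : ℕ, Odd o ∧ Even e ∧
      (∀ χ : Cfsg.IrrCharacter SL(2, F), (χ : SL(2, F) → ℂ) 1 = (((Fintype.card F + 1) / 2 : ℕ) : ℂ) ∨
        (χ : SL(2, F) → ℂ) 1 = (((Fintype.card F - 1) / 2 : ℕ) : ℂ) →
        (χ : SL(2, F) → ℂ) 1 = (o : ℂ) ∨ (χ : SL(2, F) → ℂ) 1 = (e : ℂ)) ∧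
      Nat.card {χ : Cfsg.IrrCharacter SL(2, F) // (χ : SL(2, F) → ℂ) 1 = (o : ℂ)} = 2 ∧ o ≠ 1 ∧ o ≠ Fintype.card F := by
    rcases Nat.even_or_odd h with hev | hod
    · exact ⟨(Fintype.card F + 1) / 2, (Fintype.card F - 1) / 2, by rw [hh2]; exact hev.add_one, by rwa [hh1],
        fun χ hχ => hχ, cp, by omega, by omega⟩
    · exact ⟨(Fintype.card F - 1) / 2, (Fintype.card F + 1) / 2, by rwa [hh1], by rw [hh2]; exact hod.add_one,
        fun χ hχ => hχ.symm, cm, by rintro e; rw [hh1] at e; omega, by omega⟩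
  obtain ⟨hoc, ho1, hoq⟩ := hoc
  have hiff : ∀ χ : Cfsg.IrrCharacter SL(2, F), ¬ 2 ∣ Cfsg.charDegree (χ : SL(2, F) → ℂ) ↔
      ((χ : SL(2, F) → ℂ) 1 = 1 ∨ (χ : SL(2, F) → ℂ) 1 = (Fintype.card F : ℂ)) ∨ (χ : SL(2, F) → ℂ) 1 = (o : ℂ) := by
    intro χ
    rw [Cfsg.charDegree]
    constructor
    · intro hd
      rcases hall _ χ.2 with e1 | e1 | e1 | e1 | e1 | e1
      · exact .inl (.inl e1)
      · exact .inl (.inr e1)
      · exfalso; apply hd
        rw [e1, ← Nat.cast_add_one, Complex.natCast_re, Nat.floor_natCast]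
        omega
      · exfalso; apply hd
        rw [e1, ← cast_pred, Complex.natCast_re, Nat.floor_natCast]
        omega
      all_goals
        rcases heo χ (by tauto) with e2 | e2
        · exact .inr e2
        · exfalso; apply hd
          rw [e2, Complex.natCast_re, Nat.floor_natCast]
          exact hoe.two_dvd
    · rintro ((e1 | e1) | e1) <;> rw [e1]
      · simp
      · rw [Complex.natCast_re, Nat.floor_natCast]; omega
      · rw [Complex.natCast_re, Nat.floor_natCast, Nat.two_dvd_ne_zero, ← Nat.odd_iff]; exact ho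
  have key : Nat.card (Prime' SL(2, F) 2) = _ := Nat.card_congr (Equiv.subtypeEquivRight hiff)
  have hd1 : Disjoint (fun χ : Cfsg.IrrCharacter SL(2, F) => (χ : SL(2, F) → ℂ) 1 = 1 ∨ (χ : SL(2, F) → ℂ) 1 = (Fintype.card F : ℂ))
      (fun χ => (χ : SL(2, F) → ℂ) 1 = (o : ℂ)) := by
    refine Pi.disjoint_iff.2 fun χ => Prop.disjoint_iff.2 fun ⟨a, b⟩ => ?_
    rcases a with a | a <;> rw [b] at a
    · exact ho1 (by exact_mod_cast a)
    · exact hoq (by exact_mod_cast a)
  have hd2 : Disjoint (fun χ : Cfsg.IrrCharacter SL(2, F) => (χ : SL(2, F) → ℂ) 1 = 1)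
      (fun χ => (χ : SL(2, F) → ℂ) 1 = (Fintype.card F : ℂ)) := by
    refine Pi.disjoint_iff.2 fun χ => Prop.disjoint_iff.2 fun ⟨a, b⟩ => ?_
    rw [a] at b
    have : Fintype.card F = 1 := by exact_mod_cast b.symm
    omega
  rw [key, Nat.card_congr (subtypeOrEquiv _ _ hd1), Nat.card_sum,
    Nat.card_congr (subtypeOrEquiv _ _ hd2), Nat.card_sum, c1, cq, hoc]

theorem SL_cross (hodd : Odd (Fintype.card F)) (h5 : 5 ≤ Fintype.card F) (ℓ : ℕ) (hℓ : ℓ.Prime) (hℓ2 : ℓ ≠ 2) :
    (ℓ ∣ Fintype.card F - 1 → Nat.card (Prime' SL(2, F) ℓ) = (Fintype.card F + 5) / 2) ∧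
    (ℓ ∣ Fintype.card F + 1 → Nat.card (Prime' SL(2, F) ℓ) = (Fintype.card F + 7) / 2) := by
  classical
  obtain ⟨hall, hcnt⟩ := degrees_odd (F := F) hodd
  obtain ⟨c1, cq, cps, ccu, cp, cm⟩ := hcnt h5
  obtain ⟨h, h1, hh, hh1, hh2, hh3⟩ := odd_deg_ne (F := F) hodd
  have hn2 : ¬ ℓ ∣ 2 := fun e => hℓ2 ((Nat.prime_dvd_prime_iff_eq hℓ Nat.prime_two).1 e)
  have hdisj : ∀ a b : ℕ, a ≠ b → Disjoint (fun χ : Cfsg.IrrCharacter SL(2, F) => (χ : SL(2, F) → ℂ) 1 = (a : ℂ))
      (fun χ => (χ : SL(2, F) → ℂ) 1 = (b : ℂ)) := fun a b hab =>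
    Pi.disjoint_iff.2 fun χ => Prop.disjoint_iff.2 fun ⟨x, y⟩ => hab (by
      rw [x] at y; exact_mod_cast y)
  constructor
  · intro hd
    have hq1 : ¬ ℓ ∣ Fintype.card F + 1 := fun e => hn2 (by
      have := Nat.dvd_sub e hd
      rwa [show Fintype.card F + 1 - (Fintype.card F - 1) = 2 by omega] at this)
    have hiff : ∀ χ : Cfsg.IrrCharacter SL(2, F), ℓ ∣ Cfsg.charDegree (χ : SL(2, F) → ℂ) ↔
        (χ : SL(2, F) → ℂ) 1 = ((Fintype.card F - 1 : ℕ) : ℂ) ∨
          (χ : SL(2, F) → ℂ) 1 = (((Fintype.card F - 1) / 2 : ℕ) : ℂ) := by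
      intro χ
      rw [Cfsg.charDegree]
      constructor
      · intro hχ
        rcases hall _ χ.2 with e1 | e1 | e1 | e1 | e1 | e1
        · rw [e1] at hχ; simp at hχ; exact absurd hχ hℓ.ne_one
        · rw [e1, Complex.natCast_re, Nat.floor_natCast] at hχ
          have := Nat.dvd_sub hχ hd
          rw [Nat.sub_sub_self Fintype.card_pos] at this
          exact absurd this hℓ.not_dvd_one
        · rw [e1, ← Nat.cast_add_one, Complex.natCast_re, Nat.floor_natCast] at hχ
          exact absurd hχ hq1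
        · exact .inl (e1.trans cast_pred.symm)
        · rw [e1, Complex.natCast_re, Nat.floor_natCast] at hχ
          refine absurd ?_ hq1
          rw [show Fintype.card F + 1 = 2 * ((Fintype.card F + 1) / 2) by omega]
          exact hχ.mul_left 2
        · exact .inr e1
      · rintro (e1 | e1) <;> rw [e1, Complex.natCast_re, Nat.floor_natCast]
        · exact hd
        · exact (hℓ.dvd_mul.1 (by rwa [hh3] at hd : ℓ ∣ 2 * h)).resolve_left hn2 |>.trans (by rw [hh1])
    have key := card_split ℓ _ hiff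
    rw [card_classes_odd hodd, Nat.card_congr (subtypeOrEquiv _ _ (hdisj _ _ (by omega))), Nat.card_sum, cm] at key
    rw [← cast_pred] at ccu
    rw [ccu] at key
    omega
  · intro hd
    have hq1 : ¬ ℓ ∣ Fintype.card F - 1 := fun e => hn2 (by
      have := Nat.dvd_sub hd e
      rwa [show Fintype.card F + 1 - (Fintype.card F - 1) = 2 by omega] at this)
    have hiff : ∀ χ : Cfsg.IrrCharacter SL(2, F), ℓ ∣ Cfsg.charDegree (χ : SL(2, F) → ℂ) ↔
        (χ : SL(2, F) → ℂ) 1 = ((Fintype.card F + 1 : ℕ) : ℂ) ∨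
          (χ : SL(2, F) → ℂ) 1 = (((Fintype.card F + 1) / 2 : ℕ) : ℂ) := by
      intro χ
      rw [Cfsg.charDegree]
      constructor
      · intro hχ
        rcases hall _ χ.2 with e1 | e1 | e1 | e1 | e1 | e1
        · rw [e1] at hχ; simp at hχ; exact absurd hχ hℓ.ne_one
        · rw [e1, Complex.natCast_re, Nat.floor_natCast] at hχ
          exact absurd ((Nat.dvd_add_right hχ).1 hd) hℓ.not_dvd_one
        · exact .inl (e1.trans (Nat.cast_add_one _).symm)
        · rw [e1, ← cast_pred, Complex.natCast_re, Nat.floor_natCast] at hχ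
          exact absurd hχ hq1
        · exact .inr e1
        · rw [e1, Complex.natCast_re, Nat.floor_natCast] at hχ
          refine absurd ?_ hq1
          rw [show Fintype.card F - 1 = 2 * ((Fintype.card F - 1) / 2) by omega]
          exact hχ.mul_left 2
      · rintro (e1 | e1) <;> rw [e1, Complex.natCast_re, Nat.floor_natCast]
        · exact hd
        · exact (hℓ.dvd_mul.1 (by rw [show 2 * (h + 1) = Fintype.card F + 1 by omega]; exact hd : ℓ ∣ 2 * (h + 1))).resolve_left hn2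
            |>.trans (by rw [hh2])
    have key := card_split ℓ _ hiff
    rw [card_classes_odd hodd, Nat.card_congr (subtypeOrEquiv _ _ (hdisj _ _ (by omega))), Nat.card_sum, cp] at key
    rw [← Nat.cast_add_one] at cps
    rw [cps] at key
    omega

theorem mckay (hodd : Odd (Fintype.card F)) (ℓ : ℕ) [Fact ℓ.Prime] (S : Sylow ℓ SL(2, F)) :
    Nat.card (Prime' SL(2, F) ℓ) =
      Nat.card (Prime' ↥(Subgroup.normalizer ((S : Subgroup SL(2, F)) : Set SL(2, F))) ℓ) := by
  classical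
  have hℓ : ℓ.Prime := Fact.out
  have htop : Subgroup.normalizer ((S : Subgroup SL(2, F)) : Set SL(2, F)) = ⊤ →
      Nat.card (Prime' SL(2, F) ℓ) =
        Nat.card (Prime' ↥(Subgroup.normalizer ((S : Subgroup SL(2, F)) : Set SL(2, F))) ℓ) := fun h => by
    rw [card_congr ((MulEquiv.subgroupCongr h).trans Subgroup.topEquiv) ℓ]
  obtain ⟨p, hp⟩ := CharP.exists F
  haveI : Fact p.Prime := ⟨CharP.char_is_prime F p⟩
  obtain ⟨k, hk0, hk⟩ := FiniteField.card F p
  have h3 : 3 ≤ Fintype.card F := by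
    have := Fintype.one_lt_card (α := F)
    have := Nat.odd_iff.1 hodd
    omega
  by_cases hℓ2 : ℓ = 2
  · subst hℓ2
    by_cases h5 : 5 ≤ Fintype.card F
    · rw [SL_two hodd h5]
      have := Nat.odd_iff.1 hodd
      rcases (show (Fintype.card F % 8 = 1 ∨ Fintype.card F % 8 = 7) ∨
          (Fintype.card F % 8 = 3 ∨ Fintype.card F % 8 = 5) by omega) with hq | hq
      · rw [card_two_big hodd hq S]
      · rw [card_two_small hodd hq S]
    · have hq3 : Fintype.card F = 3 := by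
        have := Nat.odd_iff.1 hodd
        omega
      refine htop (Subgroup.eq_top_of_card_eq _ ?_)
      rw [sylow_two_normalizer_small hodd (by omega) S, S.card_eq_multiplicity,
        Cfsg.Lib.Classical.SLTwoTori.card_SL2, hq3]
      norm_num
      rw [show (24 : ℕ) = 2 ^ 3 * 3 from rfl, Nat.factorization_mul (by norm_num) (by norm_num),
        Nat.Prime.factorization_pow Nat.prime_two, Finsupp.add_apply,
        Nat.factorization_eq_zero_of_not_dvd (show ¬ 2 ∣ 3 by norm_num)]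
      simp
  by_cases hℓp : ℓ = p
  · subst hℓp
    rw [SL_char ℓ hodd, card_char ℓ hodd S]
  by_cases hd : ℓ ∣ Fintype.card F - 1 ∨ ℓ ∣ Fintype.card F + 1
  · have h5 : 5 ≤ Fintype.card F := by
      by_contra hc
      have hq3 : Fintype.card F = 3 := by
        have := Nat.odd_iff.1 hodd
        omega
      rw [hq3] at hd
      have h4 : ℓ ∣ 2 ^ 2 := hd.elim (fun e => e.trans (by norm_num)) id
      exact hℓ2 ((Nat.prime_dvd_prime_iff_eq hℓ Nat.prime_two).1 (hℓ.dvd_of_dvd_pow h4))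
    obtain ⟨a1, a2⟩ := SL_cross hodd h5 ℓ hℓ hℓ2
    obtain ⟨b1, b2⟩ := card_cross hodd ℓ hℓ2 S hd
    rcases hd with e | e
    · rw [a1 e, b1 e]
    · rw [a2 e, b2 e]
  refine htop ?_
  have hnd : ¬ ℓ ∣ Nat.card SL(2, F) := by
    rw [Cfsg.Lib.Classical.SLTwoTori.card_SL2, hℓ.dvd_mul, ← one_pow 2, Nat.sq_sub_sq, hℓ.dvd_mul]
    rintro (e | e | e)
    · rw [hk] at e
      exact hℓp ((Nat.prime_dvd_prime_iff_eq hℓ Fact.out).1 (hℓ.dvd_of_dvd_pow e))
    · exact hd (.inr e)
    · exact hd (.inl e)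
  have hS : (S : Subgroup SL(2, F)) = ⊥ := by
    rw [← Subgroup.card_eq_one, S.card_eq_multiplicity, Nat.factorization_eq_zero_of_not_dvd hnd, pow_zero]
  rw [hS]
  exact Subgroup.normalizer_eq_top_iff.2 inferInstance

end Cfsg.Lib.GLTwo.McKay
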