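import Cfsg.Agent.Known.SLTwo.McKay.Tools
import Cfsg.Agent.Known.SLTwo.Sylow
import Cfsg.Agent.Known.SLTwo.Borel
import Cfsg.Agent.Known.SLTwo.Chars.SLSeries
import Cfsg.Agent.Classical.Misc.SLTwoTori

/-! Characters of degree prime to `ℓ` of the normalizer of a Sylow `ℓ`-subgroup of SL₂. -/

set_option autoImplicit false
set_option linter.unusedSectionVars false
set_option linter.style.haveILetI false

open Matrix
open scoped MatrixGroups

namespace Cfsg.Lib.GLTwo.McKay

open Cfsg.Lib.McKay Cfsg.Lib.Chars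

variable {F : Type*} [Field F] [Fintype F]

theorem card_range_uS : Nat.card ↥(SCh.uS (F := F)).range = Fintype.card F := by
  have hinj : Function.Injective (SCh.uS (F := F)) := fun x y h => by
    have := congrArg (fun z : SL(2, F) => (z : Matrix (Fin 2) (Fin 2) F) 0 1) h
    rw [← ofAdd_toAdd x, ← ofAdd_toAdd y, SCh.uS_apply, SCh.uS_apply] at this
    simpa using this
  rw [← Nat.card_congr (MonoidHom.ofInjective hinj).toEquiv, Nat.card_congr Multiplicative.toAdd,
    Nat.card_eq_fintype_card]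

theorem normalizer_uS :
    Subgroup.normalizer ((SCh.uS (F := F)).range : Set SL(2, F)) = borel F := by
  ext g
  constructor
  · intro hg
    obtain ⟨x, hx⟩ := (Subgroup.mem_normalizer_iff.1 hg (SCh.bS 1 1)).1 ⟨_, SCh.uS_apply 1⟩
    rw [← ofAdd_toAdd x, SCh.uS_apply, eq_mul_inv_iff_mul_eq] at hx
    have e := congrArg (fun z : SL(2, F) => (z : Matrix (Fin 2) (Fin 2) F) 1 1) hx
    simp [Matrix.mul_apply, Fin.sum_univ_two] at e
    exact (mem_borelSL _).2 e
  · intro hg
    have key : ∀ g ∈ borel F, ∀ u ∈ (SCh.uS (F := F)).range, g * u * g⁻¹ ∈ (SCh.uS (F := F)).range := by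
      rintro g hg _ ⟨x, rfl⟩
      obtain ⟨a, b, rfl⟩ := SCh.eq_bS ((mem_borelSL g).1 hg)
      refine ⟨Multiplicative.ofAdd ((a : F) * a * Multiplicative.toAdd x), ?_⟩
      rw [eq_mul_inv_iff_mul_eq, SCh.uS_apply, ← ofAdd_toAdd x, SCh.uS_apply, SCh.bS_mul, SCh.bS_mul]
      congr 1
      · simp
      · simp
        field_simp
        ring
    refine Subgroup.mem_normalizer_iff.2 fun u => ⟨key g hg u, fun h => ?_⟩
    have := key g⁻¹ (inv_mem hg) _ h
    rwa [inv_inv, show g⁻¹ * (g * u * g⁻¹) * g = u by group] at this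

theorem card_char (p : ℕ) [Fact p.Prime] [CharP F p] (hodd : Odd (Fintype.card F)) (S : Sylow p SL(2, F)) :
    Nat.card (Prime' ↥(Subgroup.normalizer ((S : Subgroup SL(2, F)) : Set SL(2, F))) p) = Fintype.card F + 3 := by
  obtain ⟨k, hk0, hk⟩ := FiniteField.card F p
  have hpq : p ∣ Fintype.card F := hk ▸ dvd_pow_self p k.pos.ne'
  have hfac : (Nat.card SL(2, F)).factorization p = k := by
    rw [Cfsg.Lib.Classical.SLTwoTori.card_SL2]
    have hne : ¬ p ∣ Fintype.card F ^ 2 - 1 := fun h => (Fact.out : p.Prime).not_dvd_one (by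
      have h2 : p ∣ Fintype.card F ^ 2 := dvd_pow hpq two_ne_zero
      have := Nat.dvd_sub h2 h
      rwa [Nat.sub_sub_self (Nat.one_le_pow _ _ Fintype.card_pos)] at this)
    rw [Nat.factorization_mul Fintype.card_ne_zero (fun h0 => hne (by rw [h0]; exact dvd_zero p)),
      Finsupp.add_apply, Nat.factorization_eq_zero_of_not_dvd hne, add_zero, hk,
      Nat.Prime.factorization_pow (Fact.out : p.Prime)]
    simp
  let U : Sylow p SL(2, F) := Sylow.ofCard (SCh.uS (F := F)).range (by rw [card_range_uS, hfac, hk])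
  have hU : (U : Subgroup SL(2, F)) = (SCh.uS (F := F)).range := rfl
  obtain ⟨g, hg⟩ := MulAction.exists_smul_eq SL(2, F) U S
  have e : Subgroup.normalizer ((S : Subgroup SL(2, F)) : Set SL(2, F)) =
      (borel F).map (MulAut.conj g).toMonoidHom := by
    rw [← hg, ← normalizer_uS, ← hU]
    rw [Subgroup.map_equiv_normalizer_eq]
    rfl
  rw [e, ← card_congr ((borel F).equivMapOfInjective _ (MulAut.conj g).injective) p, ← card_classes_borel hodd]
  have hle : (SCh.uS (F := F)).range ≤ borel F := normalizer_uS (F := F) ▸ Subgroup.le_normalizer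
  haveI : ((SCh.uS (F := F)).range.subgroupOf (borel F)).Normal := by
    rw [← normalizer_uS]; infer_instance
  refine card_eq_classes ((SCh.uS (F := F)).range.subgroupOf (borel F)) ?_ ?_
  · rintro ⟨a, ha⟩ h1 ⟨b, hb⟩ h2
    obtain ⟨x, hx⟩ := h1
    obtain ⟨y, hy⟩ := h2
    refine Subtype.ext ?_
    show a * b = b * a
    rw [← show SCh.uS x = a from hx, ← show SCh.uS y = b from hy, ← map_mul, ← map_mul, mul_comm]
  · intro h
    have h1 : ((SCh.uS (F := F)).range.subgroupOf (borel F)).index ∣ (U : Subgroup SL(2, F)).index := by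
      rw [hU, ← Subgroup.relIndex]
      exact Subgroup.relIndex_dvd_index_of_le hle
    exact U.not_dvd_index (h.trans h1)

theorem card_cross (hodd : Odd (Fintype.card F)) (ℓ : ℕ) [Fact ℓ.Prime] (hℓ : ℓ ≠ 2) (S : Sylow ℓ SL(2, F))
    (hd : ℓ ∣ Fintype.card F - 1 ∨ ℓ ∣ Fintype.card F + 1) :
    (ℓ ∣ Fintype.card F - 1 → Nat.card (Prime' ↥(Subgroup.normalizer ((S : Subgroup SL(2, F)) : Set SL(2, F))) ℓ) =
      (Fintype.card F + 5) / 2) ∧
    (ℓ ∣ Fintype.card F + 1 → Nat.card (Prime' ↥(Subgroup.normalizer ((S : Subgroup SL(2, F)) : Set SL(2, F))) ℓ) =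
      (Fintype.card F + 7) / 2) := by
  have h2 := two_ne_zero_of_odd hodd
  obtain ⟨g, hg, -, hN, hc1, hc2⟩ := odd_sylow hodd ℓ hℓ S hd
  rw [hN]
  set C := Subgroup.centralizer ({g} : Set SL(2, F))
  have key : Nat.card (Prime' ↥(Subgroup.normalizer (C : Set SL(2, F))) ℓ) = (Nat.card ↥C + 6) / 2 := by
    rw [← hg.card_classes h2]
    refine card_eq_classes (C.subgroupOf _) ?_ ?_
    · rintro ⟨a, ha⟩ h1 ⟨b, hb⟩ h1'
      exact Subtype.ext (cent_comm hg.1 a h1 b h1')
    · rw [← Subgroup.relIndex]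
      have h1 := Subgroup.relIndex_mul_relIndex ⊥ C (Subgroup.normalizer (C : Set SL(2, F))) bot_le
        Subgroup.le_normalizer
      rw [Subgroup.relIndex_bot_left, Subgroup.relIndex_bot_left, hg.card_normalizer h2, mul_comm 2] at h1
      rw [Nat.eq_of_mul_eq_mul_left Nat.card_pos h1]
      exact fun h => hℓ ((Nat.prime_dvd_prime_iff_eq Fact.out Nat.prime_two).1 h)
  constructor
  · intro h
    rw [key, hc1 h]
    have := Fintype.one_lt_card (α := F)
    omega
  · intro h
    rw [key, hc2 h]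

theorem card_hom_quaternion (n : ℕ) (hn : Even n) (hn0 : n ≠ 0) : Nat.card (QuaternionGroup n →* ℂˣ) = 4 := by
  haveI : NeZero n := ⟨hn0⟩
  let π : ZMod (2 * n) →+* ZMod 2 := ZMod.castHom (dvd_mul_right 2 n) (ZMod 2)
  have hπn : π ((n : ℕ) : ZMod (2 * n)) = 0 := by
    rw [map_natCast, ZMod.natCast_eq_zero_iff_even]; exact hn
  have hneg : ∀ x : ZMod 2, -x = x := by decide
  have hgen : ∀ i : ZMod (2 * n), QuaternionGroup.a i = (QuaternionGroup.a 1 : QuaternionGroup n) ^ i.val := fun i => by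
    rw [QuaternionGroup.a_one_pow, ZMod.natCast_zmod_val]
  have hxa : ∀ i : ZMod (2 * n), (QuaternionGroup.xa i : QuaternionGroup n) = QuaternionGroup.xa 0 * QuaternionGroup.a i :=
    fun i => by rw [QuaternionGroup.xa_mul_a, zero_add]
  have ha2 : ∀ f : QuaternionGroup n →* ℂˣ, f (QuaternionGroup.a 1) ^ 2 = 1 := fun f => by
    have e : (QuaternionGroup.a 1 : QuaternionGroup n) * QuaternionGroup.xa 0 * QuaternionGroup.a 1 =
        QuaternionGroup.xa 0 := by
      rw [QuaternionGroup.a_mul_xa, QuaternionGroup.xa_mul_a]; simp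
    have := congrArg f e
    rw [map_mul, map_mul, mul_right_comm, mul_eq_right, ← sq] at this
    exact this
  have hx2 : ∀ f : QuaternionGroup n →* ℂˣ, f (QuaternionGroup.xa 0) ^ 2 = 1 := fun f => by
    obtain ⟨m, hm⟩ := hn
    rw [← map_pow, sq, QuaternionGroup.xa_mul_xa, hgen, map_pow]
    have : ((n : ZMod (2 * n)) + 0 - 0).val = 2 * m := by
      rw [add_zero, sub_zero, ZMod.val_natCast, Nat.mod_eq_of_lt (by omega), hm, two_mul]
    rw [this, pow_mul, ha2, one_pow]
  have hsq : Nat.card {x : ℂˣ // x ^ 2 = 1} = 2 := by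
    refine Nat.card_eq_two_iff.2 ⟨⟨1, one_pow 2⟩, ⟨-1, by simp⟩, fun h => ?_, Set.eq_univ_of_forall fun x => ?_⟩
    · have := congrArg (fun y : {x : ℂˣ // x ^ 2 = 1} => ((y : ℂˣ) : ℂ)) h
      norm_num at this
    · have h : ((x : ℂˣ) : ℂ) ^ 2 = 1 := by rw [← Units.val_pow_eq_pow_val, x.2, Units.val_one]
      rcases sq_eq_one_iff.1 h with e | e
      · exact Or.inl (Subtype.ext (Units.ext e))
      · exact Or.inr (Subtype.ext (Units.ext e))
  let G2 := {x : ℂˣ // x ^ 2 = 1}
  rw [show (4 : ℕ) = Nat.card (G2 × G2) by rw [Nat.card_prod, hsq]]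
  refine Nat.card_eq_of_bijective
    (fun f => ((⟨_, ha2 f⟩ : G2), (⟨_, hx2 f⟩ : G2))) ⟨fun f f' h => ?_, fun ⟨e, d⟩ => ?_⟩
  · have h1 : f (QuaternionGroup.a 1) = f' (QuaternionGroup.a 1) := congrArg (fun y : G2 × G2 => (y.1 : ℂˣ)) h
    have h2 : f (QuaternionGroup.xa 0) = f' (QuaternionGroup.xa 0) := congrArg (fun y : G2 × G2 => (y.2 : ℂˣ)) h
    refine MonoidHom.ext fun x => ?_
    rcases x with i | i
    · rw [hgen i, map_pow, map_pow, h1]
    · rw [hxa i, hgen i, map_mul, map_mul, map_pow, map_pow, h1, h2]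
  · obtain ⟨e, he⟩ := e
    obtain ⟨d, hd⟩ := d
    have pe : ∀ x y : ZMod 2, e ^ (x + y).val = e ^ x.val * e ^ y.val := fun x y => by
      rw [← pow_add, ZMod.val_add, ← pow_eq_pow_mod _ he]
    let f : QuaternionGroup n → ℂˣ := fun x => match x with
      | .a i => e ^ (π i).val
      | .xa i => d * e ^ (π i).val
    have hmul : ∀ x y, f (x * y) = f x * f y := by
      rintro (i | i) (j | j)
      · rw [QuaternionGroup.a_mul_a]
        show e ^ (π (i + j)).val = _
        rw [map_add, pe]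
      · rw [QuaternionGroup.a_mul_xa]
        show d * e ^ (π (j - i)).val = e ^ (π i).val * (d * e ^ (π j).val)
        rw [map_sub, sub_eq_add_neg, hneg, pe]
        simp only [mul_comm, mul_left_comm]
      · rw [QuaternionGroup.xa_mul_a]
        show d * e ^ (π (i + j)).val = d * e ^ (π i).val * e ^ (π j).val
        rw [map_add, pe, mul_assoc]
      · rw [QuaternionGroup.xa_mul_xa]
        show e ^ (π ((n : ZMod (2 * n)) + j - i)).val = d * e ^ (π i).val * (d * e ^ (π j).val)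
        rw [map_sub, map_add, hπn, zero_add, sub_eq_add_neg, hneg, pe, mul_mul_mul_comm, ← sq d, hd, one_mul,
          mul_comm]
    refine ⟨MonoidHom.mk' f hmul, Prod.ext (Subtype.ext ?_) (Subtype.ext ?_)⟩
    · show e ^ (π 1).val = e
      rw [map_one, show (1 : ZMod 2).val = 1 by decide, pow_one]
    · show d * e ^ (π 0).val = d
      rw [map_zero, ZMod.val_zero, pow_zero, mul_one]

theorem card_two_big (hodd : Odd (Fintype.card F)) (hq : Fintype.card F % 8 = 1 ∨ Fintype.card F % 8 = 7)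
    (S : Sylow 2 SL(2, F)) :
    Nat.card (Prime' ↥(Subgroup.normalizer ((S : Subgroup SL(2, F)) : Set SL(2, F))) 2) = 4 := by
  obtain ⟨p, hp⟩ := CharP.exists F
  haveI : Fact p.Prime := ⟨CharP.char_is_prime F p⟩
  have hp2 : p ≠ 2 := by rintro rfl; exact two_ne_zero_of_odd hodd (CharP.cast_eq_zero F 2)
  rw [sylow_two_normalizer_big hodd hq S, card_linear Nat.prime_two S.isPGroup']
  obtain ⟨k, hk, ⟨e⟩⟩ := Cfsg.Lib.Classical.SLTwoTori.sylow_two_quaternion p hp2 S
  rw [← card_hom_quaternion (2 ^ k) (Nat.even_pow.2 ⟨even_two, by omega⟩) (by positivity)]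
  exact Nat.card_congr
    { toFun := fun f => f.comp e.symm.toMonoidHom
      invFun := fun f => f.comp e.toMonoidHom
      left_inv := fun f => MonoidHom.ext fun x => by simp
      right_inv := fun f => MonoidHom.ext fun x => by simp }

theorem card_two_small (hodd : Odd (Fintype.card F)) (hq : Fintype.card F % 8 = 3 ∨ Fintype.card F % 8 = 5)
    (S : Sylow 2 SL(2, F)) :
    Nat.card (Prime' ↥(Subgroup.normalizer ((S : Subgroup SL(2, F)) : Set SL(2, F))) 2) = 4 := by
  classical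
  have h2 := two_ne_zero_of_odd hodd
  haveI := Fact.mk Nat.prime_two
  set N := Subgroup.normalizer ((S : Subgroup SL(2, F)) : Set SL(2, F)) with hNdef
  have hcardN : Nat.card ↥N = 3 * Nat.card S := sylow_two_normalizer_small hodd hq S
  obtain ⟨a, haS, hreg, hcard, hS, -, w, hwS, hwC⟩ := quaternion_data hodd S
  have h8 : Nat.card S = 8 := by
    obtain ⟨m, hm, hm'⟩ : ∃ m, Odd m ∧ Fintype.card F * (Fintype.card F ^ 2 - 1) = 8 * m := by
      obtain ⟨s, hs⟩ : ∃ s, Fintype.card F = 8 * s + 3 ∨ Fintype.card F = 8 * s + 5 := ⟨Fintype.card F / 8, by omega⟩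
      rcases hs with hs | hs <;> rw [hs]
      · exact ⟨(8 * s + 3) * (8 * s ^ 2 + 6 * s + 1), by simp [parity_simps, Nat.even_pow],
          by zify [show 1 ≤ (8 * s + 3) ^ 2 from Nat.one_le_pow _ _ (by omega)]; ring⟩
      · exact ⟨(8 * s + 5) * (8 * s ^ 2 + 10 * s + 3), by simp [parity_simps, Nat.even_pow],
          by zify [show 1 ≤ (8 * s + 5) ^ 2 from Nat.one_le_pow _ _ (by omega)]; ring⟩
    rw [S.card_eq_multiplicity, Cfsg.Lib.Classical.SLTwoTori.card_SL2, hm', show (8 : ℕ) = 2 ^ 3 from rfl,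
      Nat.factorization_mul (by norm_num) (by intro h0; rw [h0] at hm; exact Nat.not_odd_zero hm),
      Nat.Prime.factorization_pow Nat.prime_two]
    simp [Nat.factorization_eq_zero_of_not_dvd (show ¬ 2 ∣ m from fun h => by rw [Nat.odd_iff] at hm; omega)]
  -- `-1` is a commutator in `S`
  have hwN : w ∈ Subgroup.normalizer ((Subgroup.centralizer ({a} : Set SL(2, F))) : Set SL(2, F)) :=
    (hreg.mem_normalizer_iff h2).2 (hreg.eq_or_inv h2 (hS w hwS) (trace_eq_of_isConj (isConj_iff.2 ⟨w, rfl⟩)).symm)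
  have hwa : w * a * w⁻¹ = a⁻¹ := hreg.inverts h2 hwN hwC (self_mem_cen a)
  have ho : orderOf a = 4 := by omega
  have hz : w * a * w⁻¹ * a⁻¹ = -1 := by
    rw [hwa, ← _root_.mul_inv_rev]
    rcases eq_pm_one_of_sq h2 (g := (a * a)⁻¹) (by
      rw [← _root_.mul_inv_rev, inv_eq_one, ← sq, ← sq, ← pow_mul, show 2 * 2 = orderOf a by rw [ho],
        pow_orderOf_eq_one]) with e | e
    · exfalso
      rw [inv_eq_one, ← sq] at e
      have := orderOf_le_of_pow_eq_one two_pos e
      omega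
    · exact e
  have hne : (-1 : SL(2, F)) ≠ 1 := fun h => by
    have e := congrArg (fun z : SL(2, F) => (z : Matrix (Fin 2) (Fin 2) F) 0 0) h
    simp at e
    exact h2 (by linear_combination -e)
  have hnS : (-1 : SL(2, F)) ∈ (S : Subgroup SL(2, F)) :=
    hz ▸ mul_mem (mul_mem (mul_mem hwS haS) (inv_mem hwS)) (inv_mem haS)
  set z : ↥N := ⟨-1, Subgroup.le_normalizer hnS⟩ with hzdef
  have hzc : z ∈ Subgroup.center ↥N := Subgroup.mem_center_iff.2 fun x => Subtype.ext
    (Subgroup.mem_center_iff.1 ((mem_center_iff_pm (-1 : SL(2, F))).2 (.inr rfl)) x)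
  have hz2 : z * z = 1 := Subtype.ext (by show (-1 : SL(2, F)) * -1 = 1; simp)
  let wN : ↥N := ⟨w, Subgroup.le_normalizer hwS⟩
  let aN : ↥N := ⟨a, Subgroup.le_normalizer haS⟩
  have hzab : z = wN * aN * wN⁻¹ * aN⁻¹ := Subtype.ext hz.symm
  set K : Subgroup ↥N := Subgroup.zpowers z with hK
  haveI : K.Normal := ⟨fun x hx y => by
    have : x ∈ Subgroup.center ↥N := Subgroup.zpowers_le.2 hzc hx
    rw [Subgroup.mem_center_iff.1 this y, mul_inv_cancel_right]
    exact hx⟩
  have hKcard : Nat.card ↥K = 2 := by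
    rw [hK, Nat.card_zpowers]
    exact orderOf_eq_prime (by rw [sq, hz2]) fun h => hne (congrArg Subtype.val h)
  let π := QuotientGroup.mk' K
  have hπs : Function.Surjective π := QuotientGroup.mk'_surjective K
  have hQ : Nat.card (↥N ⧸ K) = 12 := by
    have := Subgroup.card_eq_card_quotient_mul_card_subgroup K
    rw [hcardN, h8, hKcard] at this
    omega
  -- the image of `S`
  set V : Subgroup (↥N ⧸ K) := ((S : Subgroup SL(2, F)).subgroupOf N).map π with hV
  haveI : ((S : Subgroup SL(2, F)).subgroupOf N).Normal := by rw [hNdef]; infer_instance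
  haveI : V.Normal := Subgroup.Normal.map inferInstance π hπs
  have hVcard : Nat.card ↥V = 4 := by
    have h1 := Subgroup.card_mul_index (((S : Subgroup SL(2, F)).subgroupOf N))
    have h3 : Nat.card ↥((S : Subgroup SL(2, F)).subgroupOf N) = 8 := by
      rw [Nat.card_congr (Subgroup.subgroupOfEquivOfLe Subgroup.le_normalizer).toEquiv, h8]
    have h4 := Subgroup.index_map_eq ((S : Subgroup SL(2, F)).subgroupOf N) (f := π) hπs (by
      rw [QuotientGroup.ker_mk', hK, Subgroup.zpowers_le]; exact hnS)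
    have h5 := Subgroup.card_mul_index V
    rw [h3, hcardN, h8] at h1
    rw [hQ, hV, h4] at h5
    rw [← hV] at h5
    have : ((S : Subgroup SL(2, F)).subgroupOf N).index = 3 := by omega
    rw [this] at h5
    omega
  have hVab : ∀ x ∈ V, ∀ y ∈ V, x * y = y * x := by
    haveI : IsMulCommutative ↥V := IsPGroup.isMulCommutative_of_card_eq_prime_sq (p := 2) (by rw [hVcard]; rfl)
    exact fun x hx y hy => congrArg Subtype.val (mul_comm' (⟨x, hx⟩ : ↥V) ⟨y, hy⟩)
  have hVidx : ¬ 2 ∣ V.index := by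
    have h5 := Subgroup.card_mul_index V
    rw [hVcard, hQ] at h5
    omega
  have hodd' : ∀ χ : Cfsg.IrrCharacter (↥N ⧸ K), Odd (deg (χ : ↥N ⧸ K → ℂ)) ∧
      ((χ : ↥N ⧸ K → ℂ) 1) = deg (χ : ↥N ⧸ K → ℂ) := fun χ => by
    refine ⟨?_, irr_apply_one_eq_deg χ⟩
    haveI := Fintype.ofFinite (↥N ⧸ K)
    haveI : Fintype ↥V := Fintype.ofFinite _
    obtain ⟨θ, hθ, hc⟩ := exists_constituent (N := V) (isCharacter_of_irr χ.2) (by
      rw [irr_apply_one_eq_deg χ]
      exact Nat.cast_ne_zero.2 fun e => by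
        have := IsIrrCharacter.deg_dvd χ.2
        rw [e, zero_dvd_iff] at this
        exact absurd this Nat.card_pos.ne')
    obtain ⟨m, hm, hmi⟩ := deg_over V χ.2 hθ hc
    have h1 : deg θ = 1 := by
      have := irr_deg_one_of_comm (fun a b : V => Subtype.ext (hVab a a.2 b b.2)) hθ
      rw [IsCharacter.apply_one_eq_deg (isCharacter_of_irr hθ)] at this
      exact_mod_cast this
    rw [hm, h1, mul_one]
    exact Nat.not_even_iff_odd.1 fun he => hVidx ((even_iff_two_dvd.1 he).trans hmi)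
  have hclass : Nat.card (ConjClasses (↥N ⧸ K)) = 4 := by
    haveI := Fintype.ofFinite (↥N ⧸ K)
    have hsum := sum_deg_sq_nat (G := ↥N ⧸ K)
    rw [hQ] at hsum
    rw [← card_irrCharacter (G := ↥N ⧸ K), Nat.card_eq_fintype_card]
    have hdeg : ∀ χ : Cfsg.IrrCharacter (↥N ⧸ K), deg (χ : ↥N ⧸ K → ℂ) = 1 ∨ deg (χ : ↥N ⧸ K → ℂ) = 3 := fun χ => by
      have h1 := (hodd' χ).1
      have h3 := IsIrrCharacter.deg_dvd χ.2
      rw [hQ] at h3
      have := Nat.le_of_dvd (by norm_num) h3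
      rw [Nat.odd_iff] at h1
      interval_cases (deg (χ : ↥N ⧸ K → ℂ)) <;> omega
    have hsplit : ∑ χ : Cfsg.IrrCharacter (↥N ⧸ K), deg (χ : ↥N ⧸ K → ℂ) ^ 2 =
        Fintype.card (Cfsg.IrrCharacter (↥N ⧸ K)) +
          8 * (Finset.univ.filter fun χ : Cfsg.IrrCharacter (↥N ⧸ K) => deg (χ : ↥N ⧸ K → ℂ) = 3).card := by
      rw [Fintype.card, Finset.card_eq_sum_ones, Finset.card_filter, Finset.mul_sum, ← Finset.sum_add_distrib]
      refine Finset.sum_congr rfl fun χ _ => ?_
      rcases hdeg χ with h | h <;> simp [h]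
    rw [hsum] at hsplit
    have hpos : (Finset.univ.filter fun χ : Cfsg.IrrCharacter (↥N ⧸ K) => deg (χ : ↥N ⧸ K → ℂ) = 3).card ≠ 0 := by
      intro h0
      have hall : ∀ χ : ↥N ⧸ K → ℂ, Cfsg.IsIrrCharacter (↥N ⧸ K) χ → deg χ = 1 := fun χ hχ =>
        (hdeg ⟨χ, hχ⟩).resolve_right fun e =>
          Finset.notMem_empty _ (Finset.card_eq_zero.1 h0 ▸ Finset.mem_filter.2 ⟨Finset.mem_univ (⟨χ, hχ⟩ : Cfsg.IrrCharacter _), e⟩)
      have hder := derived_one hall
      rw [derivedSeries_one, commutator_def] at hder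
      have hcom : ∀ x y : ↥N ⧸ K, x * y = y * x := fun x y => commutatorElement_eq_one_iff_mul_comm.1
        (Subgroup.mem_bot.1 (hder ▸ Subgroup.commutator_mem_commutator (Subgroup.mem_top x) (Subgroup.mem_top y)))
      obtain ⟨y, hy⟩ := exists_prime_orderOf_dvd_card' (G := ↥N) 3 (by rw [hcardN]; exact dvd_mul_right 3 _)
      have hpm : ∀ s ∈ (S : Subgroup SL(2, F)), (y : SL(2, F)) * s * (y : SL(2, F))⁻¹ * s⁻¹ = 1 ∨
          (y : SL(2, F)) * s * (y : SL(2, F))⁻¹ * s⁻¹ = -1 := by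
        intro s hs
        let sN : ↥N := ⟨s, Subgroup.le_normalizer hs⟩
        have h1 : y * sN * y⁻¹ * sN⁻¹ ∈ K := (QuotientGroup.eq_one_iff _).1 (by
          show π (y * sN * y⁻¹ * sN⁻¹) = 1
          rw [map_mul, map_mul, map_mul, hcom (π y), map_inv, map_inv, mul_inv_cancel_right, mul_inv_cancel])
        obtain ⟨i, hi⟩ := Subgroup.mem_zpowers_iff.1 h1
        have h3 := congrArg Subtype.val hi
        rcases Int.even_or_odd i with ⟨j, rfl⟩ | ⟨j, rfl⟩
        · left; rw [← two_mul, _root_.zpow_mul, _root_.zpow_two, hz2, _root_.one_zpow] at h3; exact h3.symm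
        · right; rw [_root_.zpow_add, _root_.zpow_mul, _root_.zpow_two, hz2, _root_.one_zpow, one_mul, zpow_one] at h3
          exact h3.symm
      have hy3 : (y : SL(2, F)) ^ 3 = 1 := by rw [← Subgroup.coe_pow, ← hy, pow_orderOf_eq_one, Subgroup.coe_one]
      have hyc : (y : SL(2, F)) ∈ Subgroup.center SL(2, F) := by
        rw [← sylow_two_centralizer hodd S]
        refine Subgroup.mem_centralizer_iff.2 fun s hs => ?_
        rcases hpm s hs with e | e
        · rw [mul_inv_eq_one, mul_inv_eq_iff_eq_mul] at e; exact e.symm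
        · exfalso
          refine hne ?_
          have e1 : (y : SL(2, F)) * s * (y : SL(2, F))⁻¹ = -s := by rw [mul_inv_eq_iff_eq_mul] at e; rw [e]; simp
          calc (-1 : SL(2, F)) = -s * s⁻¹ := by simp
            _ = (y : SL(2, F)) ^ 3 * s * ((y : SL(2, F)) ^ 3)⁻¹ * s⁻¹ := by
              congr 1
              rw [show (y : SL(2, F)) ^ 3 * s * ((y : SL(2, F)) ^ 3)⁻¹ =
                y * (y * (y * s * (y : SL(2, F))⁻¹) * (y : SL(2, F))⁻¹) * (y : SL(2, F))⁻¹ by simp [pow_succ, mul_assoc], e1]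
              simp [e1]
            _ = 1 := by rw [hy3]; simp
      have h6 : orderOf ((y : SL(2, F))) = 3 := by rw [Subgroup.orderOf_coe, hy]
      rcases (mem_center_iff_pm _).1 hyc with e | e
      · rw [e, orderOf_one] at h6; omega
      · rw [e] at h6
        have := orderOf_le_of_pow_eq_one two_pos (show (-1 : SL(2, F)) ^ 2 = 1 by simp)
        omega
    omega
  rw [← hclass, ← card_irrCharacter (G := ↥N ⧸ K)]
  haveI := Fintype.ofFinite (↥N ⧸ K)
  let Φ : Cfsg.IrrCharacter (↥N ⧸ K) → Prime' ↥N 2 := fun χ =>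
    ⟨⟨fun x => (χ : ↥N ⧸ K → ℂ) (π x), IsIrrCharacter.comp_surjective χ.2 π hπs⟩, by
      simp only [Cfsg.charDegree, map_one, (hodd' χ).2, Complex.natCast_re, Nat.floor_natCast]
      intro h
      have := (hodd' χ).1
      rw [Nat.odd_iff] at this
      omega⟩
  refine (Nat.card_eq_of_bijective Φ ⟨fun χ χ' h => ?_, fun χ => ?_⟩).symm
  · refine Subtype.ext (funext fun x => ?_)
    obtain ⟨y, rfl⟩ := hπs x
    exact congrFun (congrArg (fun c : Prime' ↥N 2 => (c.1 : ↥N → ℂ)) h) y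
  · have hd : Odd (deg (χ.1 : ↥N → ℂ)) := by
      rw [← Nat.not_even_iff_odd, even_iff_two_dvd, ← charDegree_eq_deg χ.1.2]
      exact χ.2
    have hker : ∀ k ∈ π.ker, (χ.1 : ↥N → ℂ) k = (χ.1 : ↥N → ℂ) 1 := by
      intro k hk
      rw [QuotientGroup.ker_mk', hK] at hk
      obtain ⟨i, rfl⟩ := Subgroup.mem_zpowers_iff.1 hk
      rcases Int.even_or_odd i with ⟨j, rfl⟩ | ⟨j, rfl⟩
      · rw [← two_mul, _root_.zpow_mul, _root_.zpow_two, hz2, _root_.one_zpow]
      · rw [_root_.zpow_add, _root_.zpow_mul, _root_.zpow_two, hz2, _root_.one_zpow, one_mul, zpow_one, ← one_mul z,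
          apply_central_commutator χ.1.2 hd hzc hz2 hzab]
    obtain ⟨ψ, hψ, hfac⟩ := exists_factor π hπs (isCharacter_of_irr χ.1.2) hker
    exact ⟨⟨ψ, IsIrrCharacter.descend hψ π hπs (hfac ▸ χ.1.2)⟩, Subtype.ext (Subtype.ext hfac.symm)⟩

end Cfsg.Lib.GLTwo.McKay
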