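import Cfsg.Agent.Chars.DegreeTools
import Cfsg.Agent.Chars.Degree
import Cfsg.Agent.Chars.Count
import Cfsg.Agent.Chars.IrrTools
import Cfsg.Agent.Chars.Galois

/-! Counting characters of degree prime to a prime. -/

set_option autoImplicit false
set_option linter.style.haveILetI false
set_option linter.unusedSectionVars false

namespace Cfsg.Lib.McKay

open Cfsg.Lib.Chars

universe u v

/-- The irreducible characters of degree prime to `ℓ`. -/
abbrev Prime' (G : Type u) [Group G] (ℓ : ℕ) : Type u :=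
  {χ : Cfsg.IrrCharacter G // ¬ ℓ ∣ Cfsg.charDegree (χ : G → ℂ)}

theorem card_congr {G : Type u} [Group G] [Finite G] {H : Type v} [Group H] [Finite H] (e : G ≃* H) (ℓ : ℕ) :
    Nat.card (Prime' G ℓ) = Nat.card (Prime' H ℓ) := by
  refine Nat.card_congr
    { toFun := fun χ => ⟨⟨fun x => (χ.1 : G → ℂ) (e.symm x), IsIrrCharacter.comp_mulEquiv χ.1.2 e.symm⟩, ?_⟩
      invFun := fun χ => ⟨⟨fun x => (χ.1 : H → ℂ) (e x), IsIrrCharacter.comp_mulEquiv χ.1.2 e⟩, ?_⟩
      left_inv := fun χ => Subtype.ext (Subtype.ext (funext fun x => by simp))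
      right_inv := fun χ => Subtype.ext (Subtype.ext (funext fun x => by simp)) }
  · have h := χ.2
    simpa [Cfsg.charDegree] using h
  · have h := χ.2
    simpa [Cfsg.charDegree] using h

/-- When an abelian normal subgroup has index prime to `ℓ`, all degrees are prime to `ℓ`. -/
theorem card_eq_classes {G : Type u} [Group G] [Finite G] (A : Subgroup G) [A.Normal]
    (hA : ∀ a ∈ A, ∀ b ∈ A, a * b = b * a) {ℓ : ℕ} (hℓ : ¬ ℓ ∣ A.index) :
    Nat.card (Prime' G ℓ) = Nat.card (ConjClasses G) := by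
  haveI := Fintype.ofFinite G
  haveI : Fintype ↥A := Fintype.ofFinite _
  rw [← card_irrCharacter (G := G)]
  refine Nat.card_congr (Equiv.subtypeUnivEquiv fun χ h => hℓ ?_)
  rw [charDegree_eq_deg χ.2] at h
  obtain ⟨θ, hθ, hc⟩ := exists_constituent (N := A) (isCharacter_of_irr χ.2) (by
    rw [irr_apply_one_eq_deg χ]
    exact Nat.cast_ne_zero.2 fun e => hℓ (by
      have := IsIrrCharacter.deg_dvd χ.2
      rw [e, zero_dvd_iff] at this
      exact absurd this Nat.card_pos.ne'))
  obtain ⟨m, hm, hmi⟩ := deg_over A χ.2 hθ hc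
  have h1 : deg θ = 1 := by
    have := irr_deg_one_of_comm (fun a b : A => Subtype.ext (hA a a.2 b b.2)) hθ
    rw [IsCharacter.apply_one_eq_deg (isCharacter_of_irr hθ)] at this
    exact_mod_cast this
  rw [hm, h1, mul_one] at h
  exact h.trans hmi

/-- Linear characters. -/
theorem card_linear {G : Type u} [Group G] [Finite G] {ℓ : ℕ} (hℓ : ℓ.Prime)
    (hP : IsPGroup ℓ G) : Nat.card (Prime' G ℓ) = Nat.card (G →* ℂˣ) := by
  haveI := Fintype.ofFinite G
  have hone : ∀ χ : Prime' G ℓ, deg (χ.1 : G → ℂ) = 1 := fun χ => by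
    haveI := Fact.mk hℓ
    obtain ⟨n, hn⟩ := IsPGroup.iff_card.1 hP
    have h := IsIrrCharacter.deg_dvd χ.1.2
    rw [hn] at h
    obtain ⟨k, -, hk⟩ := (Nat.dvd_prime_pow hℓ).1 h
    rcases k with _ | k
    · exact hk
    · exact absurd (by rw [charDegree_eq_deg χ.1.2, hk]; exact dvd_pow_self ℓ k.succ_ne_zero) χ.2
  let F : (G →* ℂˣ) → Prime' G ℓ := fun f =>
    ⟨⟨fun g => (f g : ℂ), isIrrCharacter_linear f⟩, by
      simp [Cfsg.charDegree]; exact hℓ.ne_one⟩
  refine (Nat.card_eq_of_bijective F ⟨fun f f' h => ?_, fun χ => ?_⟩).symm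
  · ext g
    exact congrFun (congrArg (fun c : Prime' G ℓ => (c.1 : G → ℂ)) h) g
  · obtain ⟨f, hf⟩ := exists_hom_of_deg_one (isCharacter_of_irr χ.1.2) (by
      rw [irr_apply_one_eq_deg χ.1, hone χ, Nat.cast_one])
    exact ⟨f, Subtype.ext (Subtype.ext hf.symm)⟩

/-- A central involution that is a commutator is in the kernel of every character of odd degree. -/
theorem apply_central_commutator {G : Type u} [Group G] [Finite G] {χ : G → ℂ}
    (hχ : Cfsg.IsIrrCharacter G χ) (hodd : Odd (deg χ)) {z : G} (hz : z ∈ Subgroup.center G) (hz2 : z * z = 1)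
    {a b : G} (hab : z = a * b * a⁻¹ * b⁻¹) (g : G) : χ (g * z) = χ g := by
  obtain ⟨n, ρ, hρ, rfl⟩ := hχ
  haveI := hρ
  obtain ⟨c, hc⟩ := schur_scalar ρ (ρ z) fun x v => by
    rw [← Module.End.mul_apply, ← map_mul, ← Subgroup.mem_center_iff.1 hz x, map_mul, Module.End.mul_apply]
  have hn : Odd n := by
    rw [deg_character] at hodd
    simpa using hodd
  haveI : Nonempty (Fin n) := ⟨⟨0, hn.pos⟩⟩
  have hdet : c ^ n = 1 := by
    have h1 : LinearMap.det (ρ z) = 1 := by
      rw [hab, map_mul, map_mul, map_mul, map_mul, map_mul, map_mul]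
      have e1 : LinearMap.det (ρ a) * LinearMap.det (ρ a⁻¹) = 1 := by
        rw [← map_mul, ← map_mul, mul_inv_cancel, map_one, map_one]
      have e2 : LinearMap.det (ρ b) * LinearMap.det (ρ b⁻¹) = 1 := by
        rw [← map_mul, ← map_mul, mul_inv_cancel, map_one, map_one]
      linear_combination e2 + LinearMap.det (ρ b) * LinearMap.det (ρ b⁻¹) * e1
    rw [hc, LinearMap.det_smul, LinearMap.det_id, mul_one, Module.finrank_fin_fun] at h1
    exact h1
  have hc2 : c * c = 1 := by
    have h1 : ρ z * ρ z = 1 := by rw [← map_mul, hz2, map_one]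
    rw [hc] at h1
    have h2 := congrFun (LinearMap.congr_fun h1 (fun _ => 1)) (Classical.arbitrary _)
    simpa using h2
  have hc1 : c = 1 := by
    rcases mul_self_eq_one_iff.1 hc2 with h | h
    · exact h
    · rw [h, hn.neg_one_pow] at hdet
      exact absurd hdet (by norm_num)
  show LinearMap.trace ℂ _ (ρ (g * z)) = LinearMap.trace ℂ _ (ρ g)
  rw [map_mul, hc, hc1, one_smul]
  rfl

end Cfsg.Lib.McKay
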